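import Cfsg.Agent.H956.IF.Central
import Cfsg.Agent.KFacts.CoTwo.QuotInst
import Cfsg.Agent.Co2Type.Co2Gen
import Cfsg.Agent.Co2Type.FactsCo2
import Cfsg.Agent.Co2Type.Setup
import Cfsg.Agent.SmallSimple.SylowCount

/-!
# S5719, cell `co2`, part 1: a point stabiliser contains no 2A involution (helper285)

* `cent_le` : `A ≤ Co₂`, `|C(z) : A ∩ C(z)| ≤ 8`, `z` in 2A: `C(z) ≤ A` (helper956's `LargeC`);
* `no_2A` : `IF A Γ` in `Co₂`: no 2A involution in `A` (the nine involutions `x k` generate `Co₂`, are in 2A, and the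
  graph of commuting pairs is connected).
-/

set_option autoImplicit false

namespace Cfsg.Agent.H285.IFCoTwoA

open Cfsg Subgroup Cfsg.Agent.H209.Fxy Cfsg.Agent.H867.MinIdx Cfsg.Agent.H956.IF
open Cfsg.Agent.Co2Type.TData Cfsg.Agent.Co2Type.FactsD Cfsg.Agent.Co2Type.Co2Rels

theorem fin : Finite Spor.Co2 := Schreier.CoTwoStab.finite

theorem simple : IsSimpleGroup Spor.Co2 := Schreier.CoTwoStab.isSimpleGroup

theorem card_co2 : Nat.card Spor.Co2 = 42305421312000 := Schreier.CoTwoStab.card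

theorem mi_sp : MI KFacts.CoTwo.Quot.Sp62 9 := by
  have hs : IsSimpleGroup KFacts.CoTwo.Quot.Sp62 := KFacts.CoTwo.Quot.simple
  have hc : Nat.card KFacts.CoTwo.Quot.Sp62 = 1451520 := Co2Type.Setup.card_sp6
  have hf : Finite KFacts.CoTwo.Quot.Sp62 := Nat.finite_of_card_ne_zero (by rw [hc]; norm_num)
  apply MI.of_index
  intro K hK
  by_contra h
  have h1 := Cfsg.Agent.SmallSimple.SylowCount.card_dvd_factorial_index K hK
  rw [hc] at h1
  have h2 : K.index.factorial ≤ (8 : ℕ).factorial := Nat.factorial_le (by omega)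
  have h3 := Nat.le_of_dvd (Nat.factorial_pos _) h1
  have h4 : (8 : ℕ).factorial = 40320 := by decide
  omega

theorem card_cz : Nat.card (centralizer ({ge mz} : Set Spor.Co2)) = 743178240 := by
  have hfin := fin
  have D := KFacts.CoTwo.QuotInst.dataT
  obtain ⟨π, hs, hker⟩ := D.quot
  have h4 : π.ker = KFacts.CoTwo.RSub.R.subgroupOf (centralizer ({ge mz} : Set Spor.Co2)) := by
    ext c
    rw [MonoidHom.mem_ker, hker, mem_subgroupOf]
  have hle : KFacts.CoTwo.RSub.R ≤ centralizer ({ge mz} : Set Spor.Co2) := fun x hx =>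
    mem_centralizer_singleton_iff.2 (D.large.comm_z x hx)
  have h5 : Nat.card π.ker = 512 := by
    rw [h4, Nat.card_congr (subgroupOfEquivOfLe hle).toEquiv, KFacts.CoTwo.RLarge.card_R]
    norm_num
  have h6 : π.ker.index = 1451520 := by
    rw [Subgroup.index_ker, MonoidHom.range_eq_top.2 hs, Subgroup.card_top]
    exact Co2Type.Setup.card_sp6
  rw [← π.ker.card_mul_index, h5, h6]

theorem index_cz : (centralizer ({ge mz} : Set Spor.Co2)).index = 56925 := by
  have h1 := (centralizer ({ge mz} : Set Spor.Co2)).index_mul_card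
  rw [card_cz, card_co2, show 42305421312000 = 56925 * 743178240 by norm_num] at h1
  exact Nat.eq_of_mul_eq_mul_right (by norm_num) h1

theorem cent_z_le {A : Subgroup Spor.Co2} (hA : A.relIndex (centralizer ({ge mz} : Set Spor.Co2)) < 9) :
    centralizer ({ge mz} : Set Spor.Co2) ≤ A := by
  have := fin
  obtain ⟨π, hs, hker⟩ := KFacts.CoTwo.QuotInst.dataT.quot
  refine LargeC.cent_le KFacts.CoTwo.RLarge.large KFacts.CoTwo.RIrr.irr π hs (fun c hc => (hker c).1 hc) mi_sp hA ?_
  rw [KFacts.CoTwo.RLarge.card_R]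
  norm_num
  omega

theorem z_sq : ge mz * ge mz = 1 := KFacts.CoTwo.RLarge.large.z_sq
theorem z_ne : ge mz ≠ 1 := KFacts.CoTwo.RLarge.large.z_ne

theorem order_z : orderOf (ge mz) = 2 := orderOf_eq_prime (by rw [pow_two]; exact z_sq) z_ne

theorem cent_of_mem (A : Subgroup Spor.Co2) (Γ : Subgroup (MulAut Spor.Co2)) (h : IF A Γ) (hz : ge mz ∈ A) :
    centralizer ({ge mz} : Set Spor.Co2) ≤ A := by
  have := fin
  have := simple
  obtain ⟨-, -, -, -, h5⟩ := H999.IFB.IF.E2' h KFacts.CoTwo.QuotInst.nonab hz order_z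
  have h6 := (h5 _ le_rfl).1
  rw [index_cz] at h6
  apply cent_z_le
  by_contra hcon
  have h7 : 9 ^ 5 ≤ A.relIndex (centralizer ({ge mz} : Set Spor.Co2)) ^ 5 := Nat.pow_le_pow_left (by omega) 5
  omega

variable {A : Subgroup Spor.Co2} {Γ : Subgroup (MulAut Spor.Co2)}

theorem cent_le (h : IF A Γ) {s : Spor.Co2} (hs : s ∈ A) (hc : IsConj (ge mz) s) :
    centralizer ({s} : Set Spor.Co2) ≤ A := by
  obtain ⟨g, rfl⟩ := isConj_iff.1 hc
  exact Central.conj_cent cent_of_mem h g hs

/-- two involutions whose product has order three are conjugate -/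
theorem conj_of_three {G : Type*} [Group G] {u v : G} (hu : u * u = 1) (hv : v * v = 1) (h : (u * v) ^ 3 = 1) :
    IsConj u v := by
  rw [isConj_iff]
  have hui : u⁻¹ = u := inv_eq_of_mul_eq_one_right hu
  have hvi : v⁻¹ = v := inv_eq_of_mul_eq_one_right hv
  refine ⟨u * v, ?_⟩
  have h1 : u * v * (u * (v * (u * v))) = 1 := by
    rw [← h]
    simp only [pow_succ, pow_zero, one_mul, mul_assoc]
  have h2 : u * (v * (u * v)) = v * u := by
    have h3 := inv_eq_of_mul_eq_one_right h1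
    rw [mul_inv_rev, hui, hvi] at h3
    exact h3.symm
  rw [mul_inv_rev, hui, hvi]
  calc u * v * u * (v * u) = u * (v * (u * v)) * u := by simp only [mul_assoc]
    _ = v * u * u := by rw [h2]
    _ = v := by rw [mul_assoc, hu, mul_one]

/-- **No 2A involution in `A`.** -/
theorem no_2A (h : IF A Γ) {s : Spor.Co2} (hs : s ∈ A) (hc : IsConj (ge mz) s) : False := by
  have P := pg
  have ca : IsConj (ge mz) (x 0) := (Co2Type.FactsCo2.tr_eq_iff P.aa).2 tr_a
  have ci : IsConj (ge mz) (x 6) := (Co2Type.FactsCo2.tr_eq_iff P.ii).2 tr_i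
  have ce : IsConj (ge mz) (x 4) := ((ca.trans (conj_of_three P.aa P.cc P.ac)).trans
    (conj_of_three P.cc P.dd P.cd)).trans (conj_of_three P.dd P.ee P.de)
  obtain ⟨g, hg⟩ := isConj_iff.1 (hc.symm.trans ca)
  have h' := h.map (MulAut.conj g)
  set A' := A.map (MulAut.conj g).toMonoidHom with hA'
  have ha : x 0 ∈ A' := ⟨s, hs, hg⟩
  have hca := cent_le h' ha ca
  have key : ∀ {y : Spor.Co2}, x 0 * y = y * x 0 → y ∈ A' := fun hy =>
    hca (mem_centralizer_singleton_iff.2 hy.symm)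
  have hb : x 3 ∈ A' := key P.ab
  have hd : x 2 ∈ A' := key P.ad
  have he : x 4 ∈ A' := key P.ae
  have hf : x 5 ∈ A' := key P.af
  have hg' : x 7 ∈ A' := key P.ag
  have hi : x 6 ∈ A' := key P.ai
  have hh : x 8 ∈ A' := key P.ah
  have hcc : x 1 ∈ A' := cent_le h' he ce (mem_centralizer_singleton_iff.2 P.ce)
  apply h'.ne_top
  rw [← top_le_iff, ← Co2Type.Co2Gen.gen, closure_le]
  rintro y (rfl | rfl | rfl | rfl | rfl | rfl | rfl | rfl | rfl)
  · exact ha
  · exact hb
  · exact hcc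
  · exact hd
  · exact he
  · exact hf
  · exact hg'
  · exact hh
  · exact hi

end Cfsg.Agent.H285.IFCoTwoA
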