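import Cfsg.Agent.H285.IF.CoTwoB

/-!
# S5719, cell `co2`, part 3: a subgroup containing an involution and of small index in its centraliser (helper285)

`t = ge n`, `n = my` (2B) or `mv` (2C), `|C(t) : A ∩ C(t)| ≤ 31`: if `|E : A ∩ E| ≤ 15` then `A ∩ E` contains a 2A
involution by `CoTwoB.main`; otherwise `N_{C(t)}(E) ≤ (A ∩ N(E)) E`, so `A ∩ E` is invariant under the stabiliser of `n`
in `M22:2`, and by a descent in the table `Ty`, `Tv` contains a 2A involution.
-/

set_option autoImplicit false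
set_option maxRecDepth 100000

namespace Cfsg.Agent.H285.IFCoTwoC

open Cfsg Subgroup Cfsg.Agent.H285.IFCoTwoA Cfsg.Agent.H285.IFCoTwoB
open Cfsg.Agent.SporadicA.GolayBase Cfsg.Agent.SporadicA.GolayPerm
open Cfsg.Agent.SporadicStructure.M24El
open Cfsg.Agent.Co2Type.Mono Cfsg.Agent.Co2Type.TGroup Cfsg.Agent.Co2Type.TData Cfsg.Agent.Co2Type.FactsD
open Cfsg.Agent.Co2Type.TCard Cfsg.Agent.Co2Type.Facts Cfsg.Agent.Co2Type.FactsCo2
open Cfsg.Agent.Co2Type.FactsClass (tr_E)

/-! ### coordinates -/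

theorem inE_cmb : ∀ (l : List ℕ), (∀ b ∈ l, inE b = true) → ∀ c, inE (cmb l c) = true := by
  intro l
  induction l with
  | nil => exact fun _ _ => inE_zero
  | cons b l ih =>
    intro h c
    have h1 := ih (fun b' hb => h b' (List.mem_cons_of_mem _ hb)) (c >>> 1)
    rw [cmb_cons]
    cases bt c
    · exact h1
    · exact inE_xor (h b List.mem_cons_self) h1

theorem inE_B : ∀ b ∈ B10, inE b = true := by
  intro b hb
  have h : B10.all inE = true := by decide +kernel
  exact List.all_eq_true.1 h b hb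

/-- masks from coordinates -/
def msk (c : ℕ) : ℕ := cmb B10 c

theorem inE_msk (c : ℕ) : inE (msk c) = true := inE_cmb B10 inE_B c

theorem exists_cmb : ∀ (l : List ℕ) (a : ℕ), Sp l a → ∃ c < 2 ^ l.length, cmb l c = a := by
  intro l
  induction l with
  | nil => exact fun a h => ⟨0, by norm_num, h.symm⟩
  | cons b l ih =>
    rintro a (h | h)
    · obtain ⟨c, hc, he⟩ := ih a h
      refine ⟨2 * c, by rw [List.length_cons, pow_succ]; omega, ?_⟩
      have h0 : bt (2 * c) = false := by rw [bt_eq, Nat.testBit_zero]; simp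
      have h1 : (2 * c) >>> 1 = c := by rw [Nat.shiftRight_one]; omega
      rw [cmb_cons, h0, h1]
      exact he
    · obtain ⟨c, hc, he⟩ := ih _ h
      refine ⟨2 * c + 1, by rw [List.length_cons, pow_succ]; omega, ?_⟩
      have h0 : bt (2 * c + 1) = true := by rw [bt_eq, Nat.testBit_zero]; simp
      have h1 : (2 * c + 1) >>> 1 = c := by rw [Nat.shiftRight_one]; omega
      rw [cmb_cons, h0, h1, he]
      change b ^^^ (a ^^^ b) = a
      rw [Nat.xor_comm a b, ← Nat.xor_assoc, Nat.xor_self, Nat.zero_xor]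

theorem exists_msk {m : ℕ} (hm : inE m = true) : ∃ c < 1024, msk c = m := exists_cmb B10 m (sp_B10 hm)

theorem mem_E_iff' {g : Spor.Co2} : g ∈ E ↔ ∃ c < 1024, g = ge (msk c) := by
  constructor
  · rintro h
    obtain ⟨m, hm, rfl⟩ := mem_E_iff.1 h
    obtain ⟨c, hc, rfl⟩ := exists_msk hm
    exact ⟨c, hc, rfl⟩
  · rintro ⟨c, -, rfl⟩
    exact ge_mem (inE_msk c)

theorem comm_E {a b : Spor.Co2} (ha : a ∈ E) (hb : b ∈ E) : a * b = b * a := by
  obtain ⟨m, hm, rfl⟩ := mem_E_iff.1 ha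
  obtain ⟨n, hn, rfl⟩ := mem_E_iff.1 hb
  change ge m * ge n = ge n * ge m
  rw [ge_mul hm hn, ge_mul hn hm, Nat.xor_comm]

/-! ### index at most 15 -/

theorem chkDL : DL.all (fun d => Nat.beq (popcount (msk d)) 16) = true := by decide +kernel

theorem gq_ge : ∀ (l : List ℕ), (∀ b ∈ l, inE b = true) → ∀ c, gq ge l c = ge (cmb l c) := by
  intro l
  induction l with
  | nil =>
    intro _ c
    rw [show gq ge [] c = 1 from rfl, show cmb [] c = 0 from rfl, ge_zero]
  | cons b l ih =>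
    intro h c
    have h1 := ih (fun b' hb => h b' (List.mem_cons_of_mem _ hb)) (c >>> 1)
    have h2 := h b List.mem_cons_self
    have h3 := inE_cmb l (fun b' hb => h b' (List.mem_cons_of_mem _ hb)) (c >>> 1)
    rw [gq_cons, cmb_cons, h1]
    cases bt c
    · rw [cond_false, if_neg Bool.false_ne_true, one_mul]
    · rw [cond_true, if_pos rfl, ge_mul h2 h3]

theorem of_index {A : Subgroup Spor.Co2} (hA : A.relIndex E ≤ 15) :
    ∃ m, inE m = true ∧ popcount m = 16 ∧ ge m ∈ A := by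
  have hfin := IFCoTwoA.fin
  obtain ⟨d, hd, hdA⟩ := IFCoTwoB.main' (fun _ ha _ hb => comm_E ha hb) hA ge B10 rfl (fun b hb => ge_mem (inE_B b hb))
    (fun b hb => ge_sq (inE_B b hb))
  rw [gq_ge B10 inE_B] at hdA
  exact ⟨msk d, inE_msk d, Nat.eq_of_beq_eq_true (List.all_eq_true.1 chkDL d hd), hdA⟩

/-! ### the permutations -/

theorem conj_ge {Q n : ℕ} (hQ : okP Q = true) (hlt : Q < 2 ^ 120) (hn : inE n = true) :
    mo2 0 Q * ge n * (mo2 0 Q)⁻¹ = ge (pimg Q n) := by
  unfold ge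
  rw [mo2_conj_E inE_zero hn hQ hlt, mul_assoc, mul_inv_cancel, mul_one]

theorem conj_mem_E {Q : ℕ} (hQ : okP Q = true) (hlt : Q < 2 ^ 120) {e : Spor.Co2} (he : e ∈ E) :
    mo2 0 Q * e * (mo2 0 Q)⁻¹ ∈ E := by
  obtain ⟨m, hm, rfl⟩ := mem_E_iff.1 he
  change mo2 0 Q * ge m * (mo2 0 Q)⁻¹ ∈ E
  rw [conj_ge hQ hlt hm]
  exact ge_mem (inE_pimg hQ hm)

theorem E_le_cent {n : ℕ} (hn : inE n = true) : E ≤ centralizer ({ge n} : Set Spor.Co2) := fun _ he =>
  mem_centralizer_singleton_iff.2 (comm_E he (ge_mem hn))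

theorem perm_mem {n Q : ℕ} (hn : inE n = true) (hQ : okP Q = true) (hlt : Q < 2 ^ 120) (h : pimg Q n = n) :
    mo2 0 Q ∈ centralizer ({ge n} : Set Spor.Co2) := by
  rw [mem_centralizer_singleton_iff]
  have h1 := conj_ge hQ hlt hn
  rw [h, mul_inv_eq_iff_eq_mul] at h1
  exact h1

/-- `g ∈ E A` for `g` in the centraliser normalising `E`, if `2 |E : A ∩ E| > |C : A ∩ C|` -/
theorem exists_mul {G : Type*} [Group G] [Finite G] {A E C : Subgroup G} (hEC : E ≤ C) {g : G} (hg : g ∈ C)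
    (hgE : ∀ e ∈ E, g * e * g⁻¹ ∈ E) (h : A.relIndex C < 2 * A.relIndex E) : ∃ e ∈ E, e * g ∈ A := by
  by_contra hcon
  push Not at hcon
  let F : Bool × (E ⧸ A.subgroupOf E) → C ⧸ A.subgroupOf C := fun p =>
    ((⟨(if p.1 = true then g else 1) * ((p.2.out : E) : G), C.mul_mem (by split_ifs; exacts [hg, C.one_mem])
      (hEC p.2.out.2)⟩ : C) : C ⧸ A.subgroupOf C)
  have hF : Function.Injective F := by
    rintro ⟨b, q⟩ ⟨b', q'⟩ he
    have h0 : ((⟨(if b = true then g else 1) * ((q.out : E) : G), C.mul_mem (by split_ifs; exacts [hg, C.one_mem])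
        (hEC q.out.2)⟩ : C) : C ⧸ A.subgroupOf C) =
        ((⟨(if b' = true then g else 1) * ((q'.out : E) : G), C.mul_mem (by split_ifs; exacts [hg, C.one_mem])
        (hEC q'.out.2)⟩ : C) : C ⧸ A.subgroupOf C) := he
    have h1 : ((if b = true then g else 1) * ((q.out : E) : G))⁻¹ * ((if b' = true then g else 1) * ((q'.out : E) : G)) ∈ A := by
      have h2 := QuotientGroup.eq.1 h0
      exact h2
    have hout : ∀ e e' : E, (e : G)⁻¹ * g * (e' : G) ∉ A := by
      intro e e' h2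
      apply hcon ((e : G)⁻¹ * (g * (e' : G) * g⁻¹)) (E.mul_mem (E.inv_mem e.2) (hgE _ e'.2))
      have h3 : (e : G)⁻¹ * (g * (e' : G) * g⁻¹) * g = (e : G)⁻¹ * g * (e' : G) := by group
      rw [h3]
      exact h2
    have hq : (((q.out : E) : G))⁻¹ * ((q'.out : E) : G) ∈ A → q = q' := by
      intro h2
      have h3 : ((q.out : E) : E ⧸ A.subgroupOf E) = ((q'.out : E) : E ⧸ A.subgroupOf E) := QuotientGroup.eq.2 h2
      rwa [QuotientGroup.out_eq', QuotientGroup.out_eq'] at h3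
    cases b <;> cases b'
    · simp only [Bool.false_eq_true, if_false, one_mul] at h1
      rw [hq h1]
    · exfalso
      simp only [Bool.false_eq_true, if_false, if_true, one_mul, ← mul_assoc] at h1
      exact hout _ _ h1
    · exfalso
      simp only [Bool.false_eq_true, if_false, if_true, one_mul] at h1
      have h2 := A.inv_mem h1
      have h3 : ((g * ((q.out : E) : G))⁻¹ * ((q'.out : E) : G))⁻¹ = (((q'.out : E) : G))⁻¹ * g * ((q.out : E) : G) := by
        group
      rw [h3] at h2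
      exact hout _ _ h2
    · simp only [if_true] at h1
      have h3 : (g * ((q.out : E) : G))⁻¹ * (g * ((q'.out : E) : G)) = (((q.out : E) : G))⁻¹ * ((q'.out : E) : G) := by
        group
      rw [h3] at h1
      rw [hq h1]
  have h1 := Nat.card_le_card_of_injective F hF
  rw [Nat.card_prod] at h1
  have h2 : Nat.card Bool = 2 := by rw [Nat.card_eq_fintype_card, Fintype.card_bool]
  rw [h2] at h1
  change 2 * A.relIndex E ≤ A.relIndex C at h1
  omega

theorem step {A : Subgroup Spor.Co2} {n Q : ℕ} (hn : inE n = true) (hQ : okP Q = true) (hlt : Q < 2 ^ 120)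
    (hnQ : pimg Q n = n) (h : A.relIndex (centralizer ({ge n} : Set Spor.Co2)) < 2 * A.relIndex E) {m : ℕ}
    (hm : inE m = true) (hmA : ge m ∈ A) : ge (pimg Q m) ∈ A := by
  have := IFCoTwoA.fin
  obtain ⟨e, he, heA⟩ := exists_mul (E_le_cent hn) (perm_mem hn hQ hlt hnQ) (fun e he => conj_mem_E hQ hlt he) h
  have h1 := A.mul_mem (A.mul_mem heA hmA) (A.inv_mem heA)
  have h2 : e * mo2 0 Q * ge m * (e * mo2 0 Q)⁻¹ = e * (mo2 0 Q * ge m * (mo2 0 Q)⁻¹) * e⁻¹ := by group
  rw [h2, conj_ge hQ hlt hm, comm_E he (ge_mem (inE_pimg hQ hm)), mul_inv_cancel_right] at h1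
  exact h1

/-! ### the descent -/

theorem pimg_cmb {Q : ℕ} (hQ : isPerm Q = true) (l : List ℕ) : ∀ c, pimg Q (cmb l c) = cmb (l.map (pimg Q)) c := by
  induction l with
  | nil => exact fun _ => pimg_zero hQ
  | cons b l ih =>
    intro c
    rw [List.map_cons, cmb_cons, cmb_cons, ← ih]
    cases bt c
    · rfl
    · exact pimg_xor hQ _ _

theorem cmb_cmb (l : List ℕ) (R : List ℕ) : ∀ c, cmb l (cmb R c) = cmb (R.map (cmb l)) c := by
  induction R with
  | nil =>
    intro c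
    change cmb l 0 = 0
    have h := cmb_xor l 0 0
    rw [Nat.xor_self] at h
    have h2 : cmb l 0 ^^^ cmb l 0 = 0 := Nat.xor_self _
    rw [h, h2]
  | cons b R ih =>
    intro c
    rw [List.map_cons, cmb_cons, cmb_cons, ← ih]
    cases bt c
    · rfl
    · exact cmb_xor l _ _

/-- the entry of the table -/
def ent (T c : ℕ) : ℕ := Nat.land (Nat.shiftRight T (Nat.mul 5 c)) 31
/-- the rank -/
def rk (T c : ℕ) : ℕ := Nat.div (ent T c) 4
/-- the successor -/
def nx (T : ℕ) (R : List ℕ × List ℕ) (c : ℕ) : ℕ :=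
  Nat.rec (cmb R.1 c) (fun k _ => Nat.rec (Nat.xor c (cmb R.1 c)) (fun k _ => Nat.rec (cmb R.2 c)
    (fun _ _ => Nat.xor c (cmb R.2 c)) k) k) (Nat.mod (ent T c) 4)

/-- the check -/
def chkR (T : ℕ) (R : List ℕ × List ℕ) (B : List ℕ) : Bool :=
  allB (fun c => cond (Nat.beq (rk T c) 7) (memL c B)
    (cond (Nat.beq (rk T c) 0) (Nat.beq (popcount (msk c)) 16)
      (Bool.and (Nat.blt (nx T R c) 1024) (Bool.and (Nat.blt (rk T (nx T R c)) (rk T c)) (Nat.blt (rk T c) 7))))) 1024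

theorem nx_cases (T : ℕ) (R : List ℕ × List ℕ) (c : ℕ) :
    nx T R c = cmb R.1 c ∨ nx T R c = c ^^^ cmb R.1 c ∨ nx T R c = cmb R.2 c ∨ nx T R c = c ^^^ cmb R.2 c := by
  unfold nx
  rcases Nat.mod (ent T c) 4 with _ | _ | _ | k
  · exact Or.inl rfl
  · exact Or.inr (Or.inl rfl)
  · exact Or.inr (Or.inr (Or.inl rfl))
  · exact Or.inr (Or.inr (Or.inr rfl))

theorem descent {T : ℕ} {R : List ℕ × List ℕ} {B : List ℕ} (h : chkR T R B = true) {I : ℕ → Prop}
    (hx : ∀ c d, I c → I d → I (c ^^^ d)) (h1 : ∀ c, I c → I (cmb R.1 c)) (h2 : ∀ c, I c → I (cmb R.2 c)) :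
    ∀ (r c : ℕ), rk T c = r → c < 1024 → r ≠ 7 → I c → ∃ d < 1024, I d ∧ popcount (msk d) = 16 := by
  have hall := (allB_iff _ _).1 h
  intro r
  induction r using Nat.strong_induction_on with
  | _ r ih =>
    intro c hr hc hB hI
    have h3 := hall c hc
    cases h7 : Nat.beq (rk T c) 7
    · rw [h7, cond_false] at h3
      cases h0 : Nat.beq (rk T c) 0
      · rw [h0, cond_false, Bool.and_eq_true, Bool.and_eq_true] at h3
        obtain ⟨h4, h5, h6⟩ := h3
        rw [Nat.blt_eq] at h4 h5 h6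
        refine ih _ (hr ▸ h5) (nx T R c) rfl h4 (by omega) ?_
        · rcases nx_cases T R c with h8 | h8 | h8 | h8 <;> rw [h8]
          · exact h1 c hI
          · exact hx _ _ hI (h1 c hI)
          · exact h2 c hI
          · exact hx _ _ hI (h2 c hI)
      · rw [h0, cond_true] at h3
        exact ⟨c, hc, hI, Nat.eq_of_beq_eq_true h3⟩
    · exact absurd (hr.symm.trans (Nat.eq_of_beq_eq_true h7)) hB

/-- the check for a permutation -/
def chkP (n Q : ℕ) (R : List ℕ) : Bool :=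
  okP Q && Nat.blt Q (2 ^ 120) && Nat.beq (pimg Q n) n && eqL (B10.map (pimg Q)) (R.map msk)

theorem chkP_spec {n Q : ℕ} {R : List ℕ} (h : chkP n Q R = true) :
    okP Q = true ∧ Q < 2 ^ 120 ∧ pimg Q n = n ∧ ∀ c, pimg Q (msk c) = msk (cmb R c) := by
  unfold chkP at h
  rw [Bool.and_eq_true, Bool.and_eq_true, Bool.and_eq_true, Nat.blt_eq] at h
  obtain ⟨⟨⟨h1, h2⟩, h3⟩, h4⟩ := h
  refine ⟨h1, h2, Nat.eq_of_beq_eq_true h3, fun c => ?_⟩
  unfold msk
  rw [pimg_cmb (isPerm_of_ok (ok_of_okP h1)), eq_of_eqL h4, cmb_cmb]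
  rfl

theorem of_rel {A : Subgroup Spor.Co2} {n : ℕ} (hn : inE n = true) {P : ℕ × ℕ} {R : List ℕ × List ℕ} {T : ℕ}
    {B : List ℕ} (hP1 : chkP n P.1 R.1 = true) (hP2 : chkP n P.2 R.2 = true) (hT : chkR T R B = true)
    (hB : B.length ≤ 16) (hA : A.relIndex (centralizer ({ge n} : Set Spor.Co2)) ≤ 31) :
    ∃ m, inE m = true ∧ popcount m = 16 ∧ ge m ∈ A := by
  have hfin := IFCoTwoA.fin
  by_cases h15 : A.relIndex E ≤ 15
  · exact of_index h15
  have hrel : A.relIndex (centralizer ({ge n} : Set Spor.Co2)) < 2 * A.relIndex E := by omega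
  obtain ⟨a1, a2, a3, a4⟩ := chkP_spec hP1
  obtain ⟨b1, b2, b3, b4⟩ := chkP_spec hP2
  have hx : ∀ c d, ge (msk c) ∈ A → ge (msk d) ∈ A → ge (msk (c ^^^ d)) ∈ A := by
    intro c d hc hd
    have h1 := A.mul_mem hc hd
    rw [ge_mul (inE_msk c) (inE_msk d)] at h1
    have h2 : msk (c ^^^ d) = msk c ^^^ msk d := cmb_xor B10 c d
    rwa [h2]
  have h1 : ∀ c, ge (msk c) ∈ A → ge (msk (cmb R.1 c)) ∈ A := by
    intro c hc
    rw [← a4]
    exact step hn a1 a2 a3 hrel (inE_msk c) hc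
  have h2 : ∀ c, ge (msk c) ∈ A → ge (msk (cmb R.2 c)) ∈ A := by
    intro c hc
    rw [← b4]
    exact step hn b1 b2 b3 hrel (inE_msk c) hc
  have hcard : Nat.card (A ⊓ E : Subgroup Spor.Co2) * A.relIndex E = 2 ^ 10 := by
    rw [← card_E]
    have h2 := (A.subgroupOf E).card_mul_index
    have h3 : Nat.card (A.subgroupOf E) = Nat.card (A ⊓ E : Subgroup Spor.Co2) := by
      rw [← Subgroup.inf_subgroupOf_right]
      exact Nat.card_congr (Subgroup.subgroupOfEquivOfLe inf_le_right).toEquiv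
    rw [h3] at h2
    exact h2
  have hle : A.relIndex E ≤ 31 := by
    have h2 : A.relIndex (centralizer ({ge n} : Set Spor.Co2)) ≠ 0 := index_ne_zero_of_finite
    exact (Subgroup.relIndex_le_of_le_right (E_le_cent hn) h2).trans hA
  have hex : ∃ c < 1024, rk T c ≠ 7 ∧ ge (msk c) ∈ A := by
    by_contra hcon
    push Not at hcon
    have hsub : ((A ⊓ E : Subgroup Spor.Co2) : Set Spor.Co2) ⊆ (fun c => ge (msk c)) '' {c | c ∈ B} := by
      rintro g ⟨hgA, hgE⟩
      obtain ⟨c, hc, rfl⟩ := mem_E_iff'.1 hgE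
      refine ⟨c, ?_, rfl⟩
      have h7 : rk T c = 7 := by
        by_contra h7
        exact hcon c hc h7 hgA
      have h8 := (allB_iff _ _).1 hT c hc
      rw [h7, show Nat.beq 7 7 = true from rfl, cond_true] at h8
      exact memL_iff.1 h8
    have hfB : {c | c ∈ B}.Finite := List.finite_toSet B
    have h3 : Nat.card (A ⊓ E : Subgroup Spor.Co2) ≤ B.length := by
      calc Nat.card (A ⊓ E : Subgroup Spor.Co2) = ((A ⊓ E : Subgroup Spor.Co2) : Set Spor.Co2).ncard := rfl
        _ ≤ ((fun c => ge (msk c)) '' {c | c ∈ B}).ncard := Set.ncard_le_ncard hsub (hfB.image _)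
        _ ≤ {c | c ∈ B}.ncard := Set.ncard_image_le hfB
        _ = B.toFinset.card := by
            rw [← Set.ncard_coe_finset]
            congr 1
            ext c
            simp
        _ ≤ B.length := List.toFinset_card_le B
    have h4 : Nat.card (A ⊓ E : Subgroup Spor.Co2) * A.relIndex E ≤ 16 * 31 := Nat.mul_le_mul (h3.trans hB) hle
    rw [hcard] at h4
    norm_num at h4
  obtain ⟨c, hc, h7, hI⟩ := hex
  obtain ⟨d, -, hd, h16⟩ := descent hT hx h1 h2 (rk T c) c rfl hc h7 hI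
  exact ⟨msk d, inE_msk d, h16, hd⟩

/-! ### the data for `my` -/

/-- permutations -/
def Py : ℕ × ℕ := (984758645073915865050191769761040768, 983319307765324755573494160875464736)
/-- their action on coordinates -/
def Ry : List ℕ × List ℕ := ([579, 516, 594, 586, 64, 656, 562, 18, 592, 336], [26, 708, 665, 540, 656, 128, 524, 552, 148, 916])
/-- ranks and steps -/
def Ty : ℕ := 0x100000c6b40d030ea041716018d8020a8340d000e76219001d806b60d0400d041508350d82e2c48000025710262d4b62d041a96c5110312d8b5e96b1a94c4110352d8a62d6c5316a5b1836294b62d04520025b1034094b22d001694bdb16352d8a62d681a9045318352d8b629445b06a5b18a62d4b62d6c1ad42111635ad8022f544106b5ac89e0b6b60d041916c1ad42a2c835ad6b5b0746506b60d8aa1c000103c1a08820b835ad6b410640f10220d63232041ad2c4f0835a80160e630b16b4f0822256b60d045090212e41d2d735c94b9ae6a5b15a5cd4b60d69d2e6a5b1635894b5ed681a93b9ae3b52d725cd69da94b9ae0352d7250d6b8eb0250f735c949e2d4b00c6a5b0724ed4b62d6a1a96b92e8b52d735c902cb16b5b081e25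6b4ed69dad2bd90835ad8960b6b5b05c1d16b60d5ae32946106c1ad7ba0c835ad044103c1ad0020b035ad035a0640f16a20d632326c00d280f0835a88960e630b16b4f0822256b60d681096a12e41d2d735c94b9ae025b15a5cd4b60d01d2e6a5b1635894b5ed6c5a93b9ae3b52d725cd01da94b80e8b52d7250d6b8eb6a50f735c949e2d4b1ac6a5b0724ed4b62d6a1a96b92e0352d735c902cb16b5b081e256b4ed69dad2bd90835ad8960b6b5b05c1d16b60d5ae32946106c1ad7ba0c835ad6b5b00478c6b60d8b0ea041716418d8720a835ad044e76219089d9c6b60d6c1ade41508350d82e2c4c5b16a5718a40d4b62d6c1a96c5118b12d8b5e96b1a94c5b18b52d8a62d6c5316a5b1836294b62d681316a5b18b6294b22d6c5694bdb16352d8a62d6c5a96c5318352d8b629445b06a5b18a62d4b62d6c1ad42111635ad8722f547906b5ac89e0b6b60de41916c1ad42a2c835ad6b5b0746506b60d8aa1c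
/-- exceptions -/
def By : List ℕ := [0, 31, 45, 50, 203, 212, 230, 249, 768]

/-! ### the data for `mv` -/

/-- permutations -/
def Pv : ℕ × ℕ := (968898531091666505104727250317182240, 982913740044227973671228145824809504)
/-- their action on coordinates -/
def Rv : List ℕ × List ℕ := ([162, 571, 177, 186, 211, 289, 56, 18, 171, 157], [770, 392, 969, 928, 168, 360, 960, 752, 328, 236])
/-- ranks and steps -/
def Tv : ℕ := 0x90000c7300c041a901e0840188501089240d000ac5adcc01de04c0a501c0c030a52c1703b4ae28000024ad031c55460e0293041d8a03e107218b53d2e6140c0210c2b4ed8318b49d87731cd3b8f00350001d8703809394f00012c7b1854b9087c0ef881c901d4b6ba0c6294b5b4ac6410d5b5056a64879d50630e8639283820e5b00e5ad8c59dad824ee01db02a58d2954c825652b1f26b99143a097b1880000e3a9406018c824ef61c09394f203d0929def0316b6316c622090310c640ae5c0f0816104b5a5015500316593d0862ca57ad28724a582d45831ae6c14d4b1a86b1e84b50e680ef62d2c7c12e8258e624ee6218c0160e435cc2958e038ae735ed495ac52c0d4c0ec62d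cb841af829a97457043d887a96c044ad4a0ec631055c1b07316b63170839307a56c61da93c0e85b64969cace312e2a591625f0930ea0340f6498e001c903e2c02d204218a43128440f229409480eb6396b6160b715a782e052958d624ef7022a2b98b6952d8ba055b10e041ed530e88255001da56210d640ac725ea81dc76b98e3b0e95b19001ca74c00c3b0ec5a1a979e0f421c92b18f625ad5a94c641cd5a8e94ba114492d2a1ab0220c615ab04207425cc41d8c828ef71d306b4eb6316b7358b2ad30628a56b125834ed4318f4c1c88b1cd93d8579d300316c629477362c03ce54a1eb91ca74b8ec0218d4c10c62d8c5ad8c2b5a9840b081e0b7160c2956c421f22ac0d828b2735902a9702952e4256f721a943d8d435896aa0d731307260f6256c79ded601a8740ac6310c71d2c634a96bdae715c9730a57b6105b96c61e096b56a62d4f431e882e2e4b5508360b2a18c61d096962d62d2f825d082d8c5ad8e614ed4c9ab41e074b4ec51d9283d2c8b1257259c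
/-- exceptions -/
def Bv : List ℕ := [0, 527]

theorem of_y {A : Subgroup Spor.Co2} (hA : A.relIndex (centralizer ({ge my} : Set Spor.Co2)) ≤ 31) :
    ∃ m, inE m = true ∧ popcount m = 16 ∧ ge m ∈ A :=
  of_rel iy (P := Py) (R := Ry) (T := Ty) (B := By) (by decide +kernel) (by decide +kernel) (by decide +kernel)
    (by decide) hA

theorem of_v {A : Subgroup Spor.Co2} (hA : A.relIndex (centralizer ({ge mv} : Set Spor.Co2)) ≤ 31) :
    ∃ m, inE m = true ∧ popcount m = 16 ∧ ge m ∈ A :=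
  of_rel iv (P := Pv) (R := Rv) (T := Tv) (B := Bv) (by decide +kernel) (by decide +kernel) (by decide +kernel)
    (by decide) hA

/-- an element of `E` of weight 16 is in 2A -/
theorem conj_of_16 {m : ℕ} (hm : inE m = true) (h : popcount m = 16) : IsConj (ge mz) (ge m) := by
  rw [tr_eq_iff (ge_sq hm)]
  have h1 : tr (ge m) = 24 - 2 * (popcount m : ℤ) := tr_E hm
  rw [h1, h]
  norm_num

end Cfsg.Agent.H285.IFCoTwoC
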