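import Cfsg.Agent.HN.InvHN
import Cfsg.Agent.HN.DSem
import Cfsg.Agent.HN.Central
import Cfsg.Agent.HN.SimpleHN
import Cfsg.Agent.S1701
import Cfsg.Agent.H999.IF.EngB
import Cfsg.Agent.H209.IF.Kill

/-!
# S5719, cell `hn`, part 1: a point stabiliser contains no 2A involution (helper285)

* `comm_mem` : a subgroup of index `≤ 24` contains the commutator `e` of `c, d` (`⟨c, d⟩ = 5^{1+2}`);
* `N_le`, `sq_mem` : `|C(s) : A ∩ C(s)| ≤ 17`, `s` in 2A: `A` contains `O^2` of `C(s) = 2.HS.2`;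
* `no_2A` : `IF A Γ` in `HN`: no 2A involution in `A`.
-/

set_option autoImplicit false
set_option maxRecDepth 100000

namespace Cfsg.Agent.H285.IFHNa

open Subgroup

section abs

variable {G : Type*} [Group G]

theorem exists_inv {m : ℕ} (h : m % 5 ≠ 0) : ∃ j, (m * j) % 5 = 1 := by
  have h1 : m % 5 = 1 ∨ m % 5 = 2 ∨ m % 5 = 3 ∨ m % 5 = 4 := by omega
  rcases h1 with h1 | h1 | h1 | h1
  · exact ⟨1, by omega⟩
  · exact ⟨3, by omega⟩
  · exact ⟨2, by omega⟩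
  · exact ⟨4, by omega⟩

theorem pow_of_mod {e : G} (he : e ^ 5 = 1) {m : ℕ} (h : m % 5 = 1) : e ^ m = e := by
  rw [pow_eq_pow_mod m he, h, pow_one]

theorem pow_of_mod0 {e : G} (he : e ^ 5 = 1) {m : ℕ} (h : m % 5 = 0) : e ^ m = 1 := by
  rw [pow_eq_pow_mod m he, h, pow_zero]

theorem inv_pow_mul {c : G} (hc : c ^ 5 = 1) {i i' : ℕ} (hi : i ≤ 5) : (c ^ i)⁻¹ * c ^ i' = c ^ (5 - i + i') := by
  rw [inv_mul_eq_iff_eq_mul, ← pow_add, show i + (5 - i + i') = 5 + i' by omega, pow_add, hc, one_mul]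

/-- pigeonhole -/
theorem pig {X : Subgroup G} (h0 : X.index ≠ 0) (hX : X.index ≤ 24) {c e : G} (hce : c * e = e * c)
    (hc : c ^ 5 = 1) (he : e ^ 5 = 1) : e ∈ X ∨ ∃ k : ℕ, c * e ^ k ∈ X := by
  have hfi : X.FiniteIndex := ⟨h0⟩
  let f : Fin 5 × Fin 5 → G ⧸ X := fun p => ((c ^ (p.1 : ℕ) * e ^ (p.2 : ℕ) : G) : G ⧸ X)
  have hf : ¬ Function.Injective f := by
    intro hi
    have h1 := Nat.card_le_card_of_injective f hi
    rw [Nat.card_prod, Nat.card_eq_fintype_card, Fintype.card_fin] at h1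
    change 5 * 5 ≤ X.index at h1
    omega
  rw [Function.Injective] at hf
  push Not at hf
  obtain ⟨⟨i, k⟩, ⟨i', k'⟩, h1, h2⟩ := hf
  have h3 : (c ^ (i : ℕ) * e ^ (k : ℕ))⁻¹ * (c ^ (i' : ℕ) * e ^ (k' : ℕ)) ∈ X := QuotientGroup.eq.1 h1
  have hC : Commute c e := hce
  have h4 : (c ^ (i : ℕ) * e ^ (k : ℕ))⁻¹ * (c ^ (i' : ℕ) * e ^ (k' : ℕ)) =
      c ^ (5 - (i : ℕ) + i') * e ^ (5 - (k : ℕ) + k') := by
    rw [← inv_pow_mul hc i.2.le, ← inv_pow_mul he k.2.le]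
    have h5 : Commute ((c ^ (i : ℕ))⁻¹ * c ^ (i' : ℕ)) (e ^ (k : ℕ))⁻¹ :=
      Commute.mul_left ((hC.pow_pow _ _).inv_inv) ((hC.pow_pow _ _).inv_right)
    calc (c ^ (i : ℕ) * e ^ (k : ℕ))⁻¹ * (c ^ (i' : ℕ) * e ^ (k' : ℕ))
        = (e ^ (k : ℕ))⁻¹ * ((c ^ (i : ℕ))⁻¹ * c ^ (i' : ℕ)) * e ^ (k' : ℕ) := by group
      _ = (c ^ (i : ℕ))⁻¹ * c ^ (i' : ℕ) * (e ^ (k : ℕ))⁻¹ * e ^ (k' : ℕ) := by rw [← h5.eq]
      _ = _ := by rw [mul_assoc]
  rw [h4] at h3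
  by_cases hn : (5 - (i : ℕ) + i') % 5 = 0
  · left
    rw [pow_of_mod0 hc hn, one_mul] at h3
    have hi := i.2
    have hi' := i'.2
    have hk := k.2
    have hk' := k'.2
    have h6 : i = i' := Fin.ext (by omega)
    have h7 : (5 - (k : ℕ) + k') % 5 ≠ 0 := by
      intro h7
      apply h2
      rw [h6, show k = k' from Fin.ext (by omega)]
    obtain ⟨j, hj⟩ := exists_inv h7
    have h8 := X.pow_mem h3 j
    rwa [← pow_mul, pow_of_mod he hj] at h8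
  · right
    obtain ⟨j, hj⟩ := exists_inv hn
    have h8 := X.pow_mem h3 j
    rw [(hC.pow_pow _ _).mul_pow, ← pow_mul, ← pow_mul, pow_of_mod hc hj] at h8
    exact ⟨_, h8⟩

/-- the commutator of an extraspecial group `5^{1+2}` lies in each subgroup of index `≤ 24` -/
theorem comm_mem {X : Subgroup G} (h0 : X.index ≠ 0) (hX : X.index ≤ 24) {c d e : G} (hc : c ^ 5 = 1)
    (hd : d ^ 5 = 1) (he : e ^ 5 = 1) (h1 : c * e = e * c) (h2 : d * e = e * d) (h3 : c⁻¹ * d⁻¹ * c * d = e) :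
    e ∈ X := by
  rcases pig h0 hX h1 hc he with h | ⟨k, hk⟩
  · exact h
  rcases pig h0 hX h2 hd he with h | ⟨l, hl⟩
  · exact h
  have h4 := X.mul_mem (X.mul_mem (X.mul_mem (X.inv_mem hk) (X.inv_mem hl)) hk) hl
  have hC : Commute c e := h1
  have hD : Commute d e := h2
  have hc1 : Commute (e ^ l) c := (hC.pow_right l).symm
  have hd1 : Commute (e ^ k) d := (hD.pow_right k).symm
  have h5 : (d * e ^ l) * (c * e ^ k) = (d * c) * (e ^ l * e ^ k) := by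
    calc (d * e ^ l) * (c * e ^ k) = d * (e ^ l * c) * e ^ k := by group
      _ = d * (c * e ^ l) * e ^ k := by rw [hc1.eq]
      _ = _ := by group
  have h6 : (c * e ^ k) * (d * e ^ l) = (c * d) * (e ^ l * e ^ k) := by
    calc (c * e ^ k) * (d * e ^ l) = c * (e ^ k * d) * e ^ l := by group
      _ = c * (d * e ^ k) * e ^ l := by rw [hd1.eq]
      _ = (c * d) * (e ^ k * e ^ l) := by group
      _ = _ := by rw [← pow_add, ← pow_add, add_comm]
  have h7 : Commute e (e ^ l * e ^ k) := Commute.mul_right (Commute.pow_right rfl l) (Commute.pow_right rfl k)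
  have h8 : (c * e ^ k)⁻¹ * (d * e ^ l)⁻¹ * (c * e ^ k) * (d * e ^ l) = e := by
    calc (c * e ^ k)⁻¹ * (d * e ^ l)⁻¹ * (c * e ^ k) * (d * e ^ l)
        = ((d * e ^ l) * (c * e ^ k))⁻¹ * ((c * e ^ k) * (d * e ^ l)) := by group
      _ = ((d * c) * (e ^ l * e ^ k))⁻¹ * ((c * d) * (e ^ l * e ^ k)) := by rw [h5, h6]
      _ = (e ^ l * e ^ k)⁻¹ * ((c⁻¹ * d⁻¹ * c * d) * (e ^ l * e ^ k)) := by group
      _ = (e ^ l * e ^ k)⁻¹ * (e * (e ^ l * e ^ k)) := by rw [h3]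
      _ = (e ^ l * e ^ k)⁻¹ * ((e ^ l * e ^ k) * e) := by rw [h7.eq]
      _ = e := by group
  rwa [h8] at h4

/-- the normal closure -/
theorem ncl_le {X : Subgroup G} (h0 : X.index ≠ 0) (hX : X.index ≤ 24) {c d e : G} (hc : c ^ 5 = 1)
    (hd : d ^ 5 = 1) (he : e ^ 5 = 1) (h1 : c * e = e * c) (h2 : d * e = e * d) (h3 : c⁻¹ * d⁻¹ * c * d = e) :
    normalClosure ({e} : Set G) ≤ X := by
  rw [normalClosure, closure_le]
  intro x hx
  rw [Group.mem_conjugatesOfSet_iff] at hx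
  obtain ⟨a, ha, hx⟩ := hx
  rw [Set.mem_singleton_iff] at ha
  subst ha
  obtain ⟨g, hg⟩ := isConj_iff.1 hx
  rw [← hg]
  have key := comm_mem h0 hX (c := MulAut.conj g c) (d := MulAut.conj g d) (e := MulAut.conj g a)
    (by rw [← map_pow, hc, map_one]) (by rw [← map_pow, hd, map_one]) (by rw [← map_pow, he, map_one])
    (by rw [← map_mul, h1, map_mul]) (by rw [← map_mul, h2, map_mul])
    (by rw [← map_inv, ← map_inv, ← map_mul, ← map_mul, ← map_mul, h3])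
  exact key

end abs

open Cfsg.Agent.HN Cfsg.Agent.HN.Pres Cfsg.Agent.HN.H0Basic Cfsg.Agent.HN.Syl
open Cfsg.Agent.HN.P1408 hiding ψ ψ_gx ψ_gy ψ_gz ψ_injective
open Cfsg.Agent.HN.NormalH Cfsg.Agent.H209.Fxy

/-- word -/
def wc : List ℕ := [2,4,2,2,1,2,2,4,1,3]
/-- word -/
def wd : List ℕ := [4,3,3,0,2,2,2,4,1,3,4,2,4,2]
/-- word -/
def we : List ℕ := iw wc ++ iw wd ++ wc ++ wd
/-- word -/
def p1 : List ℕ := [4,2,2,4,2,0,2,2,2]
/-- word -/
def p2 : List ℕ := [3,3,4,2,2,4,2,0,2,2]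
/-- word -/
def q1 : List ℕ := [3,0,2,2,0,2,0,2,0]
/-- word -/
def q2 : List ℕ := [3,3,4,2,2,2,0,3,3,0,3]

/-- the normal subgroup of index 2 -/
noncomputable def N : Subgroup H0 := normalClosure ({hw we} : Set H0)

instance N_normal : N.Normal := normalClosure_normal

theorem c5 : (hw wc) ^ 5 = 1 := by
  simp only [pow_succ, pow_zero, one_mul, ← hw_append]
  rw [← hw_nil]
  exact hw_eq (by decide +kernel)

theorem d5 : (hw wd) ^ 5 = 1 := by
  simp only [pow_succ, pow_zero, one_mul, ← hw_append]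
  rw [← hw_nil]
  exact hw_eq (by decide +kernel)

theorem e5 : (hw we) ^ 5 = 1 := by
  simp only [pow_succ, pow_zero, one_mul, ← hw_append]
  rw [← hw_nil]
  exact hw_eq (by decide +kernel)

theorem ce : hw wc * hw we = hw we * hw wc := by
  rw [← hw_append, ← hw_append]
  exact hw_eq (by decide +kernel)

theorem de : hw wd * hw we = hw we * hw wd := by
  rw [← hw_append, ← hw_append]
  exact hw_eq (by decide +kernel)

theorem comm_eq : (hw wc)⁻¹ * (hw wd)⁻¹ * hw wc * hw wd = hw we := by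
  rw [we, hw_append, hw_append, hw_append, hw_iw, hw_iw]

theorem N_le_of {X : Subgroup H0} (h0 : X.index ≠ 0) (hX : X.index ≤ 24) : N ≤ X :=
  ncl_le h0 hX c5 d5 e5 ce de comm_eq

theorem e_mem : hw we ∈ N := subset_normalClosure rfl

theorem conj_mem (p : List ℕ) : hw (iw p ++ we ++ p) ∈ N := by
  have h := N_normal.conj_mem _ e_mem (hw p)⁻¹
  rw [inv_inv] at h
  rw [hw_append, hw_append, hw_iw]
  exact h

theorem gx_mem : gx ∈ N := by
  have h : gx = hw (iw p1 ++ we ++ p1) * hw (iw p2 ++ we ++ p2) := by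
    rw [← hw_append, ← hw_x]
    exact hw_eq (by decide +kernel)
  rw [h]
  exact N.mul_mem (conj_mem _) (conj_mem _)

theorem gy_mem : gy ∈ N := by
  have h : gy = hw (iw q1 ++ we ++ q1) * hw (iw q2 ++ we ++ q2) := by
    rw [← hw_append, ← hw_y]
    exact hw_eq (by decide +kernel)
  rw [h]
  exact N.mul_mem (conj_mem _) (conj_mem _)

theorem sq_mem_N (h : H0) : h ^ 2 ∈ N := by
  have h1 : (⊤ : Subgroup H0) ≤ (zpowers (QuotientGroup.mk' N gz)).comap (QuotientGroup.mk' N) := by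
    rw [← closure_gens, closure_le]
    rintro _ (rfl | rfl | rfl)
    · change QuotientGroup.mk' N gx ∈ zpowers (QuotientGroup.mk' N gz)
      rw [show QuotientGroup.mk' N gx = 1 from (QuotientGroup.eq_one_iff gx).2 gx_mem]
      exact one_mem _
    · change QuotientGroup.mk' N gy ∈ zpowers (QuotientGroup.mk' N gz)
      rw [show QuotientGroup.mk' N gy = 1 from (QuotientGroup.eq_one_iff gy).2 gy_mem]
      exact one_mem _
    · exact mem_zpowers _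
  obtain ⟨k, hk⟩ := mem_zpowers_iff.1 (h1 (mem_top h))
  rw [← QuotientGroup.eq_one_iff]
  change QuotientGroup.mk' N (h ^ 2) = 1
  rw [map_pow, ← hk, ← zpow_natCast, ← zpow_mul, mul_comm, zpow_mul, zpow_natCast, ← map_pow, rels_H0.r7, map_one,
    one_zpow]

theorem ψτ_eq : NormalH.ψ τ = Pres.hx ^ 2 := by
  rw [τ, map_pow, ψ_gx]

theorem cent_τ : centralizer ({NormalH.ψ τ} : Set Cfsg.Spor.HN) = H := by
  rw [ψτ_eq, Central.centralizer_eq]

/-- the homomorphism onto `C(g ψ(τ) g⁻¹)` -/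
noncomputable def fg (g : Cfsg.Spor.HN) : H0 →* Cfsg.Spor.HN := (MulAut.conj g).toMonoidHom.comp NormalH.ψ

theorem fg_apply (g : Cfsg.Spor.HN) (h : H0) : fg g h = g * NormalH.ψ h * g⁻¹ := rfl

theorem range_fg (g : Cfsg.Spor.HN) : (fg g).range = centralizer ({g * NormalH.ψ τ * g⁻¹} : Set Cfsg.Spor.HN) := by
  ext v
  rw [mem_centralizer_singleton_iff]
  constructor
  · rintro ⟨h, rfl⟩
    rw [fg_apply]
    calc g * NormalH.ψ h * g⁻¹ * (g * NormalH.ψ τ * g⁻¹) = g * (NormalH.ψ (h * τ)) * g⁻¹ := by rw [map_mul]; group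
      _ = g * NormalH.ψ (τ * h) * g⁻¹ := by rw [τ_comm]
      _ = _ := by rw [map_mul]; group
  · intro hv
    have h1 : g⁻¹ * v * g ∈ centralizer ({NormalH.ψ τ} : Set Cfsg.Spor.HN) := by
      rw [mem_centralizer_singleton_iff]
      calc g⁻¹ * v * g * NormalH.ψ τ = g⁻¹ * (v * (g * NormalH.ψ τ * g⁻¹)) * g := by group
        _ = g⁻¹ * (g * NormalH.ψ τ * g⁻¹ * v) * g := by rw [hv]
        _ = _ := by group
    rw [cent_τ, ← range_ψ] at h1
    obtain ⟨h, hh⟩ := h1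
    exact ⟨h, by rw [fg_apply, hh]; group⟩

theorem N_le {A : Subgroup Cfsg.Spor.HN} {g : Cfsg.Spor.HN}
    (h0 : A.relIndex (centralizer ({g * NormalH.ψ τ * g⁻¹} : Set Cfsg.Spor.HN)) ≠ 0)
    (hA : A.relIndex (centralizer ({g * NormalH.ψ τ * g⁻¹} : Set Cfsg.Spor.HN)) ≤ 24) {n : H0} (hn : n ∈ N) :
    g * NormalH.ψ n * g⁻¹ ∈ A := by
  rw [← range_fg, ← index_comap] at h0 hA
  exact N_le_of h0 hA hn

theorem sq_mem {A : Subgroup Cfsg.Spor.HN} {g : Cfsg.Spor.HN}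
    (h0 : A.relIndex (centralizer ({g * NormalH.ψ τ * g⁻¹} : Set Cfsg.Spor.HN)) ≠ 0)
    (hA : A.relIndex (centralizer ({g * NormalH.ψ τ * g⁻¹} : Set Cfsg.Spor.HN)) ≤ 24) {v : Cfsg.Spor.HN}
    (hv : v ∈ centralizer ({g * NormalH.ψ τ * g⁻¹} : Set Cfsg.Spor.HN)) : v ^ 2 ∈ A := by
  have hv' := hv
  rw [← range_fg] at hv'
  obtain ⟨h, rfl⟩ := hv'
  rw [← map_pow, fg_apply]
  exact N_le h0 hA (sq_mem_N h)

theorem simpleHN : IsSimpleGroup Cfsg.Spor.HN := S1701.result.1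

theorem hna : ∃ u v : Cfsg.Spor.HN, u * v ≠ v * u := by
  refine ⟨NormalH.ψ (hw [2]), NormalH.ψ (hw [4]), fun h => ?_⟩
  rw [← map_mul, ← map_mul] at h
  have h1 := NormalH.ψ_injective finite_H0 card_H0_le XSq.hx_sq_ne h
  rw [← hw_append, ← hw_append] at h1
  exact hw_ne rfl rfl (p := 1) (by norm_num) (by decide +kernel) h1

theorem fg_injective (g : Cfsg.Spor.HN) : Function.Injective (fg g) :=
  (MulAut.conj g).injective.comp (NormalH.ψ_injective finite_H0 card_H0_le XSq.hx_sq_ne)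

theorem idx (g : Cfsg.Spor.HN) :
    (centralizer ({g * NormalH.ψ τ * g⁻¹} : Set Cfsg.Spor.HN)).index = 1539000 := by
  have h1 := (centralizer ({g * NormalH.ψ τ * g⁻¹} : Set Cfsg.Spor.HN)).index_mul_card
  rw [← range_fg, ← Nat.card_congr (MonoidHom.ofInjective (fg_injective g)).toEquiv, H0Basic.card_H0, S1701.result.2] at h1
  rw [← range_fg]
  omega

variable {A : Subgroup Cfsg.Spor.HN} {Γ : Subgroup (MulAut Cfsg.Spor.HN)}

theorem order_ψτ : orderOf (NormalH.ψ τ) = 2 := by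
  rw [orderOf_injective NormalH.ψ (NormalH.ψ_injective finite_H0 card_H0_le XSq.hx_sq_ne)]
  exact orderOf_eq_prime τ_sq τ_ne_one

theorem rel_le (h : IF A Γ) {g : Cfsg.Spor.HN} (hs : g * NormalH.ψ τ * g⁻¹ ∈ A) :
    A.relIndex (centralizer ({g * NormalH.ψ τ * g⁻¹} : Set Cfsg.Spor.HN)) ≠ 0 ∧
    A.relIndex (centralizer ({g * NormalH.ψ τ * g⁻¹} : Set Cfsg.Spor.HN)) ≤ 24 := by
  have := simpleHN
  have ho : orderOf (g * NormalH.ψ τ * g⁻¹) = 2 := by
    rw [← order_ψτ]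
    exact orderOf_injective (MulAut.conj g).toMonoidHom (MulAut.conj g).injective _
  obtain ⟨-, -, -, -, h5⟩ := H999.IFB.IF.E2' h hna hs ho
  have h6 := (h5 _ le_rfl).1
  rw [idx] at h6
  refine ⟨?_, ?_⟩
  · exact Subgroup.index_ne_zero_of_finite
  · by_contra hcon
    have h7 : 25 ^ 5 ≤ A.relIndex (centralizer ({g * NormalH.ψ τ * g⁻¹} : Set Cfsg.Spor.HN)) ^ 5 :=
      Nat.pow_le_pow_left (by omega) 5
    omega

theorem no_τ (h : IF A Γ) (hs : NormalH.ψ τ ∈ A) : False := by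
  have := simpleHN
  have key : ∀ {g : Cfsg.Spor.HN}, g * NormalH.ψ τ * g⁻¹ ∈ A → (∀ n ∈ N, g * NormalH.ψ n * g⁻¹ ∈ A) ∧
      ∀ v ∈ centralizer ({g * NormalH.ψ τ * g⁻¹} : Set Cfsg.Spor.HN), v ^ 2 ∈ A := by
    intro g hg
    obtain ⟨h1, h2⟩ := rel_le h hg
    exact ⟨fun n hn => N_le h1 h2 hn, fun v hv => sq_mem h1 h2 hv⟩
  have five : ∀ {g v : Cfsg.Spor.HN}, g * NormalH.ψ τ * g⁻¹ ∈ A →
      v * (g * NormalH.ψ τ * g⁻¹) = g * NormalH.ψ τ * g⁻¹ * v → v ^ 5 = 1 → v ∈ A := by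
    intro g v hg hv h5
    have h1 := A.pow_mem ((key hg).2 v (mem_centralizer_singleton_iff.2 hv)) 3
    rwa [← pow_mul, show 2 * 3 = 5 + 1 by norm_num, pow_succ, h5, one_mul] at h1
  have hN : ∀ n ∈ N, NormalH.ψ n ∈ A := by
    intro n hn
    have h1 := (key (g := 1) (by rw [one_mul, inv_one, mul_one]; exact hs)).1 n hn
    rwa [one_mul, inv_one, mul_one] at h1
  have hxA : Pres.hx ∈ A := by rw [← ψ_gx]; exact hN _ gx_mem
  have hyA : Pres.hy ∈ A := by rw [← ψ_gy]; exact hN _ gy_mem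
  have haN : a ∈ N := N.pow_mem gy_mem 3
  obtain ⟨g, hg⟩ := isConj_iff.1 InvHN.isConj_a.symm
  have hca : Pres.ht * NormalH.ψ a = NormalH.ψ a * Pres.ht := by
    rw [a, map_pow, ψ_gy]
    exact (Commute.pow_right (show Commute Pres.ht Pres.hy from DSem.ty) 3).eq
  have htA : Pres.ht ∈ A := five (g := g) (by rw [hg]; exact hN _ haN) (by rw [hg]; exact hca) DSem.t5
  have hzz := DSem.zz
  have hzi : Pres.hz⁻¹ = Pres.hz := inv_eq_of_mul_eq_one_right hzz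
  have hcz : Pres.hz * g * NormalH.ψ τ * (Pres.hz * g)⁻¹ = Pres.hz * NormalH.ψ a * Pres.hz⁻¹ := by
    rw [← hg]; group
  have hzA : Pres.hz * NormalH.ψ a * Pres.hz⁻¹ ∈ A := by
    have h1 := hN _ (N_normal.conj_mem _ haN gz)
    rwa [map_mul, map_mul, map_inv, ψ_gz] at h1
  have hwA : Pres.hz * Pres.ht * Pres.hz⁻¹ ∈ A := by
    refine five (g := Pres.hz * g) (by rw [hcz]; exact hzA) ?_ ?_
    · rw [hcz]
      calc Pres.hz * Pres.ht * Pres.hz⁻¹ * (Pres.hz * NormalH.ψ a * Pres.hz⁻¹)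
          = Pres.hz * (Pres.ht * NormalH.ψ a) * Pres.hz⁻¹ := by group
        _ = Pres.hz * (NormalH.ψ a * Pres.ht) * Pres.hz⁻¹ := by rw [hca]
        _ = _ := by group
    · rw [conj_pow, DSem.t5, mul_one, mul_inv_cancel]
  have hz3 : Pres.hz = Pres.ht⁻¹ * (Pres.hz * Pres.ht * Pres.hz⁻¹)⁻¹ * Pres.ht⁻¹ := by
    have h1 := DSem.zt
    have h2 : Pres.hz * Pres.ht * Pres.hz * (Pres.ht * Pres.hz * Pres.ht) = 1 := by
      rw [← h1]
      simp only [pow_succ, pow_zero, one_mul, mul_assoc]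
    rw [hzi, inv_eq_of_mul_eq_one_right h2]
    group
  have hzA' : Pres.hz ∈ A := by
    rw [hz3]
    exact A.mul_mem (A.mul_mem (A.inv_mem htA) (A.inv_mem hwA)) (A.inv_mem htA)
  apply h.ne_top
  rw [← top_le_iff, ← SimpleHN.closure_HN, closure_le]
  rintro _ (rfl | rfl | rfl | rfl)
  · exact hxA
  · exact hyA
  · exact hzA'
  · exact htA

/-- **No 2A involution in `A`.** -/
theorem no_2A (h : IF A Γ) {s : Cfsg.Spor.HN} (hs : s ∈ A) (hc : IsConj s (NormalH.ψ τ)) : False := by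
  obtain ⟨g, hg⟩ := isConj_iff.1 hc
  refine no_τ (h.map (MulAut.conj g)) ?_
  exact ⟨s, hs, hg⟩

end Cfsg.Agent.H285.IFHNa
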